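import Groth.Agent.H1FSExist.Power
import Groth.Agent.RegFS6.PrimeField
import Groth.Agent.S2471
import Groth.Prelude.Def_EGA41

/-!
# Formally smooth local algebras with prescribed residue field
-/

set_option autoImplicit false
set_option linter.style.haveILetI false

universe u

open IsLocalRing TensorProduct KaehlerDifferential

namespace Groth.Agent.H1FSExist

section base

variable {k A K : Type u} [Field k] [CommRing A] [Field K] [Algebra k A] [Algebra A K] [Algebra k K]
  [IsScalarTower k A K]

/-- The base change of the map on differentials, read on `K ⊗[k] Ω[k]`. -/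
noncomputable def toBC : (K ⊗[k] Ω[k⁄ℤ]) →ₗ[K] (K ⊗[A] Ω[A⁄ℤ]) :=
  (mapBaseChange ℤ k A).baseChange K ∘ₗ
    (AlgebraTensorModule.cancelBaseChange k A K K Ω[k⁄ℤ]).symm.toLinearMap

theorem toBC_tmul (c : K) (x : k) :
    toBC (A := A) (c ⊗ₜ[k] D ℤ k x) = c ⊗ₜ[A] D ℤ A (algebraMap k A x) := by
  simp [toBC, AlgebraTensorModule.cancelBaseChange_symm_tmul, mapBaseChange_tmul]

theorem mapBaseChange_toBC (z : K ⊗[k] Ω[k⁄ℤ]) :
    mapBaseChange ℤ A K (toBC (A := A) z) = mapBaseChange ℤ k K z := by
  induction z using TensorProduct.induction_on with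
  | zero => simp
  | tmul c w =>
    have hw : w ∈ Submodule.span k (Set.range (D ℤ k)) := by rw [span_range_derivation]; trivial
    induction hw using Submodule.span_induction generalizing c with
    | mem y hy =>
      obtain ⟨x, rfl⟩ := hy
      rw [toBC_tmul, mapBaseChange_tmul, mapBaseChange_tmul]
      simp [← IsScalarTower.algebraMap_apply]
    | zero => simp
    | add s t _ _ hs ht => simp only [tmul_add, map_add, hs, ht]
    | smul r s _ hs => rw [tmul_smul, smul_tmul']; exact hs _
  | add a b ha hb => simp only [map_add, ha, hb]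

theorem lTensor_injective_iff_toBC :
    Function.Injective ((mapBaseChange ℤ k A).lTensor K) ↔ Function.Injective (toBC (A := A) (k := k) (K := K)) := by
  have h : ⇑((mapBaseChange ℤ k A).baseChange K) = ⇑((mapBaseChange ℤ k A).lTensor K) := by
    rw [LinearMap.baseChange_eq_ltensor]
  rw [toBC, LinearMap.coe_comp, LinearEquiv.coe_coe, EquivLike.injective_comp, h]

theorem residue_injective_iff [IsLocalRing A] (hs : Function.Surjective (algebraMap A K)) :
    Function.Injective ((mapBaseChange ℤ k A).lTensor (ResidueField A)) ↔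
      Function.Injective (toBC (A := A) (k := k) (K := K)) := by
  rw [← lTensor_injective_iff_toBC]
  have hk : RingHom.ker (algebraMap A K) = maximalIdeal A := by
    haveI := RingHom.ker_isMaximal_of_surjective (algebraMap A K) hs
    exact IsLocalRing.eq_maximalIdeal inferInstance
  let e : ResidueField A ≃ₐ[A] K :=
    (Ideal.quotientEquivAlgOfEq A hk.symm).trans
      (Ideal.quotientKerAlgEquivOfSurjective (f := Algebra.ofId A K) hs)
  have h : ((mapBaseChange ℤ k A).lTensor K).comp (LinearEquiv.rTensor _ e.toLinearEquiv).toLinearMap =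
      (LinearEquiv.rTensor _ e.toLinearEquiv).toLinearMap.comp ((mapBaseChange ℤ k A).lTensor (ResidueField A)) := by
    refine TensorProduct.ext' fun a b => ?_
    rfl
  constructor
  · intro hi
    have : ⇑((mapBaseChange ℤ k A).lTensor K) ∘ ⇑(LinearEquiv.rTensor _ e.toLinearEquiv) =
        ⇑(LinearEquiv.rTensor _ e.toLinearEquiv) ∘ ⇑((mapBaseChange ℤ k A).lTensor (ResidueField A)) :=
      funext fun a => LinearMap.congr_fun h a
    exact (EquivLike.injective_comp _ _).1 (this ▸ (LinearEquiv.injective _).comp hi)
  · intro hi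
    have : ⇑((mapBaseChange ℤ k A).lTensor K) ∘ ⇑(LinearEquiv.rTensor _ e.toLinearEquiv) =
        ⇑(LinearEquiv.rTensor _ e.toLinearEquiv) ∘ ⇑((mapBaseChange ℤ k A).lTensor (ResidueField A)) :=
      funext fun a => LinearMap.congr_fun h a
    have h2 := hi.comp (LinearEquiv.rTensor (M := A ⊗[k] Ω[k⁄ℤ]) e.toLinearEquiv).injective
    rw [this] at h2
    exact h2.of_comp

end base

/-- Necessity: the imperfection module is finite. -/
theorem finite_imperfection {k A K : Type u} [Field k] [CommRing A] [IsLocalRing A] [IsNoetherianRing A]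
    [Field K] [Algebra k A] [Algebra k K] (h : CAlgX.IsAdicFormallySmooth k A (maximalIdeal A))
    (e : ResidueField A ≃ₐ[k] K) : Module.Finite K (EGA41.imperfection ℤ k K) := by
  letI : Algebra A K := (e.toRingEquiv.toRingHom.comp (residue A)).toAlgebra
  haveI : IsScalarTower k A K := IsScalarTower.of_algebraMap_eq fun x => (e.commutes x).symm
  have hs : Function.Surjective (algebraMap A K) := fun y => by
    obtain ⟨r, hr⟩ := e.surjective y
    obtain ⟨a, rfl⟩ := IsLocalRing.residue_surjective r
    exact ⟨a, hr⟩
  have hinj := (residue_injective_iff (k := k) hs).1 ((S2471.result).1 h).2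
  haveI : Module.Finite A (RingHom.ker (algebraMap A K)).Cotangent :=
    haveI : Module.Finite A (RingHom.ker (algebraMap A K)) := Module.Finite.iff_fg.2 (IsNoetherian.noetherian _)
    Module.Finite.of_surjective _ (RingHom.ker (algebraMap A K)).toCotangent_surjective
  let V := LinearMap.ker (mapBaseChange ℤ A K)
  haveI : Module.Finite A (V.restrictScalars A) := by
    refine Module.Finite.iff_fg.2 ?_
    have hr : V.restrictScalars A = LinearMap.range (kerCotangentToTensor ℤ A K) :=
      (range_kerCotangentToTensor ℤ A K hs).symm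
    rw [hr, ← Submodule.map_top]
    exact Submodule.FG.map _ Module.Finite.fg_top
  haveI : Module.Finite A V := inferInstanceAs (Module.Finite A (V.restrictScalars A))
  haveI : Module.Finite K V := Module.Finite.of_restrictScalars_finite A K V
  let j : EGA41.imperfection ℤ k K →ₗ[K] V :=
    ((toBC (A := A) (k := k) (K := K)).comp (EGA41.imperfection ℤ k K).subtype).codRestrict V fun z => by
      show mapBaseChange ℤ A K (toBC (A := A) z.1) = 0
      rw [mapBaseChange_toBC]
      exact z.2
  haveI : IsNoetherian K V := isNoetherian_of_isNoetherianRing_of_finite K V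
  exact Module.Finite.of_injective j fun a b hab => Subtype.ext (hinj (congrArg Subtype.val hab))

/-- The linear form on base changed differentials attached to a derivation. -/
noncomputable def dlift {A K : Type u} [CommRing A] [CommRing K] [Algebra A K] (δ : A →+ K)
    (h : ∀ a b, δ (a * b) = algebraMap A K a * δ b + algebraMap A K b * δ a) :
    K ⊗[A] Ω[A⁄ℤ] →ₗ[K] K :=
  (Derivation.mk' δ.toIntLinearMap fun a b => by
    simpa [Algebra.smul_def] using h a b).liftKaehlerDifferential.liftBaseChange K

theorem dlift_tmul {A K : Type u} [CommRing A] [CommRing K] [Algebra A K] (δ : A →+ K)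
    (h : ∀ a b, δ (a * b) = algebraMap A K a * δ b + algebraMap A K b * δ a) (c : K) (a : A) :
    dlift δ h (c ⊗ₜ[A] D ℤ A a) = c • δ a := by
  simp [dlift]

theorem exists_injective {K : Type u} [Field K] {V : Type u} [AddCommGroup V] [Module K V] [Module.Finite K V] {n : ℕ}
    (hn : Module.finrank K V ≤ n) : ∃ f : V →ₗ[K] (Fin n → K), Function.Injective f := by
  let g : (Fin (Module.finrank K V) → K) →ₗ[K] (Fin n → K) :=
    { toFun := fun v i => if hi : (i : ℕ) < _ then v ⟨i, hi⟩ else 0
      map_add' := fun v w => funext fun i => by dsimp only [Pi.add_apply]; split_ifs <;> simp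
      map_smul' := fun c v => funext fun i => by
        dsimp only [Pi.smul_apply, RingHom.id_apply]; split_ifs <;> simp }
  refine ⟨g.comp (Module.finBasis K V).equivFun.toLinearMap, ?_⟩
  rw [LinearMap.coe_comp, LinearEquiv.coe_coe, EquivLike.injective_comp]
  intro v w hvw
  funext i
  have := congrFun hvw (i.castLE hn)
  simpa [g] using this

/-- Existence in every dimension at least the rank of the imperfection module. -/
theorem exists_formallySmooth {k K : Type u} [Field k] [Field K] [Algebra k K]
    [Module.Finite K (EGA41.imperfection ℤ k K)] {n : ℕ}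
    (hn : Module.finrank K (EGA41.imperfection ℤ k K) ≤ n) :
    ∃ (A : Type u) (_ : CommRing A) (_ : IsLocalRing A) (_ : IsNoetherianRing A) (_ : Algebra k A),
      IsAdicComplete (maximalIdeal A) A ∧ CAlgX.IsAdicFormallySmooth k A (maximalIdeal A) ∧
        Nonempty (ResidueField A ≃ₐ[k] K) ∧ ringKrullDim A = n := by
  classical
  obtain ⟨P, _, _, hP, hU⟩ := RegFS6.exists_primeField k
  haveI := hP
  haveI := hU
  obtain ⟨f, hf⟩ := exists_injective (V := EGA41.imperfection ℤ k K) hn
  obtain ⟨F, hF⟩ := LinearMap.exists_extend f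
  let π := algebraMap k K
  let Dk : Fin n → k →+ K := fun i =>
    AddMonoidHom.mk' (fun x => F ((1 : K) ⊗ₜ[k] D ℤ k x) i) fun x y => by
      simp only [map_add, tmul_add, Pi.add_apply]
  have hD : ∀ i x y, Dk i (x * y) = π x * Dk i y + π y * Dk i x := fun i x y => by
    show F ((1 : K) ⊗ₜ[k] D ℤ k (x * y)) i = _
    rw [(D ℤ k).leibniz, tmul_add, tmul_smul, tmul_smul, ← IsScalarTower.algebraMap_smul K x,
      ← IsScalarTower.algebraMap_smul K y, map_add, map_smul, map_smul]
    rfl
  have hDP : ∀ i r, Dk i (algebraMap P k r) = 0 := fun i r => by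
    show F ((1 : K) ⊗ₜ[k] D ℤ k (algebraMap P k r)) i = 0
    rw [← KaehlerDifferential.map_D ℤ ℤ P k r, Subsingleton.elim (D ℤ P r) 0, map_zero, tmul_zero, map_zero,
      Pi.zero_apply]
  obtain ⟨v, hv⟩ := exists_lift n K π Dk hD hDP
  letI : Algebra k (PS n K) := v.toAlgebra
  letI : Algebra (PS n K) K := (MvPowerSeries.constantCoeff (σ := Fin n) (R := K)).toAlgebra
  haveI : IsScalarTower k (PS n K) K := IsScalarTower.of_algebraMap_eq fun x => ((hv x).1).symm
  have hs : Function.Surjective (algebraMap (PS n K) K) := fun c => ⟨MvPowerSeries.C c, MvPowerSeries.constantCoeff_C c⟩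
  haveI : IsRegularLocalRing (PS n K) := PSLib.isRegularLocalRing K n
  have hd : ∀ (i : Fin n) (a b : PS n K), (MvPowerSeries.coeff (Finsupp.single i 1)).toAddMonoidHom (a * b) =
      algebraMap (PS n K) K a * (MvPowerSeries.coeff (Finsupp.single i 1)).toAddMonoidHom b +
        algebraMap (PS n K) K b * (MvPowerSeries.coeff (Finsupp.single i 1)).toAddMonoidHom a := fun i a b => by
    show MvPowerSeries.coeff (Finsupp.single i 1) (a * b) =
      MvPowerSeries.constantCoeff a * MvPowerSeries.coeff (Finsupp.single i 1) b +
        MvPowerSeries.constantCoeff b * MvPowerSeries.coeff (Finsupp.single i 1) a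
    rw [MvPowerSeries.coeff_mul, Finsupp.antidiagonal_single, Finset.sum_map,
      show (Finset.HasAntidiagonal.antidiagonal 1 : Finset (ℕ × ℕ)) = {(0, 1), (1, 0)} from rfl,
      Finset.sum_insert (by simp), Finset.sum_singleton]
    simp [MvPowerSeries.coeff_zero_eq_constantCoeff_apply, mul_comm]
  let dl := fun i => dlift _ (hd i)
  have hdl : ∀ i (z : K ⊗[k] Ω[k⁄ℤ]), dl i (toBC (A := PS n K) z) = F z i := fun i z => by
    induction z using TensorProduct.induction_on with
    | zero => simp
    | tmul c w =>
      have hw : w ∈ Submodule.span k (Set.range (D ℤ k)) := by rw [span_range_derivation]; trivial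
      induction hw using Submodule.span_induction generalizing c with
      | mem y hy =>
        obtain ⟨x, rfl⟩ := hy
        rw [toBC_tmul, dlift_tmul]
        show c • MvPowerSeries.coeff (Finsupp.single i 1) (v x) = _
        rw [(hv x).2 i, show c ⊗ₜ[k] D ℤ k x = c • ((1 : K) ⊗ₜ[k] D ℤ k x) by rw [smul_tmul', smul_eq_mul, mul_one],
          map_smul]
        rfl
      | zero => simp
      | add s t _ _ hs ht => simp only [tmul_add, map_add, Pi.add_apply, hs, ht]
      | smul r s _ hs => rw [tmul_smul, smul_tmul']; exact hs _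
    | add a b ha hb => simp only [map_add, Pi.add_apply, ha, hb]
  have hinj : Function.Injective (toBC (A := PS n K) (k := k) (K := K)) := by
    rw [injective_iff_map_eq_zero]
    intro z hz
    have hz1 : z ∈ EGA41.imperfection ℤ k K := by
      show mapBaseChange ℤ k K z = 0
      rw [← mapBaseChange_toBC (A := PS n K), hz, map_zero]
    have h2 : F z = 0 := funext fun i => by rw [← hdl i z, hz, map_zero, Pi.zero_apply]
    have h3 : f ⟨z, hz1⟩ = 0 := by
      rw [← hF]; exact h2
    exact congrArg Subtype.val (hf (h3.trans (map_zero f).symm))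
  refine ⟨PS n K, inferInstance, inferInstance, inferInstance, inferInstance, ?_,
    (S2471.result).2 ⟨inferInstance, (residue_injective_iff (k := k) hs).2 hinj⟩, ?_, PSLib.ringKrullDim_eq K n⟩
  · haveI : IsAdicComplete (maximalIdeal K) K := by rw [maximalIdeal_eq_bot]; infer_instance
    exact CohenLib.isAdicComplete_mvPowerSeries
  · have hk : RingHom.ker (algebraMap (PS n K) K) = maximalIdeal (PS n K) := by
      haveI := RingHom.ker_isMaximal_of_surjective (algebraMap (PS n K) K) hs
      exact IsLocalRing.eq_maximalIdeal inferInstance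
    exact ⟨((Ideal.quotientEquivAlgOfEq (PS n K) hk.symm).trans
      (Ideal.quotientKerAlgEquivOfSurjective (f := Algebra.ofId (PS n K) K) hs)).restrictScalars k⟩

end Groth.Agent.H1FSExist
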