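import Groth.Agent.PSLib.Regular
import Groth.Agent.EGA41Lib.FieldFS
import Groth.Agent.CohenLib.PowerSeries
import Mathlib.RingTheory.Smooth.AdicCompletion

/-!
# Lifting to power series rings with prescribed linear part
-/

set_option autoImplicit false
set_option linter.style.haveILetI false

universe u

open IsLocalRing

namespace Groth.Agent.H1FSExist

/-- Completeness for the square of an ideal. -/
theorem isAdicComplete_sq {A : Type u} [CommRing A] (m : Ideal A) [IsAdicComplete m A] :
    IsAdicComplete (m ^ 2) A := by
  have hpow : ∀ i : ℕ, (m ^ 2) ^ i ≤ m ^ i := fun i => by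
    rw [← pow_mul]; exact Ideal.pow_le_pow_right (by omega)
  haveI : IsHausdorff (m ^ 2) A := ⟨fun x hx => IsHausdorff.haus (inferInstance : IsHausdorff m A) x fun i =>
    SModEq.mono (Submodule.smul_mono_left (hpow i)) (hx i)⟩
  haveI : IsPrecomplete (m ^ 2) A := ⟨fun a ha => by
    obtain ⟨L, hL⟩ := IsPrecomplete.prec (inferInstance : IsPrecomplete m A) (f := a) fun {i j} hij =>
      SModEq.mono (Submodule.smul_mono_left (hpow i)) (ha hij)
    refine ⟨L, fun j => (ha (show j ≤ 2 * j by omega)).trans ?_⟩
    rw [← pow_mul]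
    exact hL (2 * j)⟩
  exact ⟨⟩

variable (n : ℕ) (K : Type u) [Field K]

abbrev PS := MvPowerSeries (Fin n) K

/-- The linear power series with given coefficients. -/
noncomputable def lin (c : K) (d : Fin n → K) : PS n K :=
  MvPowerSeries.C c + ∑ i, MvPowerSeries.C (d i) * MvPowerSeries.X i

theorem sum_mem_vars (d : Fin n → K) :
    (∑ i, MvPowerSeries.C (d i) * MvPowerSeries.X i : PS n K) ∈ PSLib.vars n K :=
  Ideal.sum_mem _ fun i _ => Ideal.mul_mem_left _ _ (PSLib.mem_vars_iff.2 (MvPowerSeries.constantCoeff_X i))

theorem constantCoeff_lin (c : K) (d : Fin n → K) : MvPowerSeries.constantCoeff (lin n K c d) = c := by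
  rw [lin, map_add, MvPowerSeries.constantCoeff_C, PSLib.mem_vars_iff.1 (sum_mem_vars n K d), add_zero]

theorem coeff_single_lin (c : K) (d : Fin n → K) (j : Fin n) :
    MvPowerSeries.coeff (Finsupp.single j 1) (lin n K c d) = d j := by
  classical
  rw [lin, map_add, map_sum, MvPowerSeries.coeff_C, if_neg (Finsupp.single_ne_zero.2 one_ne_zero), zero_add,
    Finset.sum_eq_single j]
  · rw [MvPowerSeries.coeff_C_mul, MvPowerSeries.coeff_X, if_pos rfl, mul_one]
  · intro i _ hij
    rw [MvPowerSeries.coeff_C_mul, MvPowerSeries.coeff_X, if_neg, mul_zero]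
    intro h
    exact hij (Finsupp.single_left_injective one_ne_zero h).symm
  · simp

theorem lin_mul (a b : K) (d e : Fin n → K) :
    lin n K a d * lin n K b e - lin n K (a * b) (fun i => a * e i + b * d i) ∈ PSLib.vars n K ^ 2 := by
  have h : lin n K a d * lin n K b e - lin n K (a * b) (fun i => a * e i + b * d i) =
      (∑ i, MvPowerSeries.C (d i) * MvPowerSeries.X i) * (∑ i, MvPowerSeries.C (e i) * MvPowerSeries.X i) := by
    simp only [lin, map_mul, map_add, add_mul, Finset.sum_add_distrib, mul_assoc, ← Finset.mul_sum]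
    ring
  rw [h, pow_two]
  exact Ideal.mul_mem_mul (sum_mem_vars n K d) (sum_mem_vars n K e)

variable {P k : Type u} [Field P] [PerfectField P] [Field k] [Algebra P k]

/-- A map to the power series ring with prescribed constant term and linear part. -/
theorem exists_lift (π : k →+* K) (D : Fin n → k →+ K)
    (hD : ∀ i x y, D i (x * y) = π x * D i y + π y * D i x) (hDP : ∀ i r, D i (algebraMap P k r) = 0) :
    ∃ v : k →+* PS n K, ∀ x, MvPowerSeries.constantCoeff (v x) = π x ∧
      ∀ i, MvPowerSeries.coeff (Finsupp.single i 1) (v x) = D i x := by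
  let J := PSLib.vars n K ^ 2
  have h1 : ∀ i, D i 1 = 0 := fun i => by simpa using hDP i 1
  let F : k → PS n K := fun x => lin n K (π x) fun i => D i x
  let u : k →+* PS n K ⧸ J :=
    { toFun := fun x => Ideal.Quotient.mk J (F x)
      map_one' := by
        show Ideal.Quotient.mk J (F 1) = 1
        simp [F, lin, h1]
      map_mul' := fun x y => by
        show Ideal.Quotient.mk J (F (x * y)) = Ideal.Quotient.mk J (F x) * Ideal.Quotient.mk J (F y)
        rw [← map_mul]
        refine (Ideal.Quotient.eq.2 ?_).symm
        simp only [F, map_mul, hD]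
        exact lin_mul n K _ _ _ _
      map_zero' := by
        show Ideal.Quotient.mk J (F 0) = 0
        simp [F, lin]
      map_add' := fun x y => by
        show Ideal.Quotient.mk J (F (x + y)) = Ideal.Quotient.mk J (F x) + Ideal.Quotient.mk J (F y)
        rw [← map_add]
        congr 1
        simp only [F, lin, map_add, add_mul, Finset.sum_add_distrib]
        abel }
  letI : Algebra P (PS n K) := (MvPowerSeries.C.comp (π.comp (algebraMap P k))).toAlgebra
  let uA : k →ₐ[P] PS n K ⧸ J :=
    { u with
      commutes' := fun r => by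
        show Ideal.Quotient.mk J (F (algebraMap P k r)) =
          Ideal.Quotient.mk J (MvPowerSeries.C (π (algebraMap P k r)))
        congr 1
        simp [F, lin, hDP] }
  haveI : IsAdicComplete (PSLib.vars n K) (PS n K) := by
    haveI : IsAdicComplete (maximalIdeal K) K := by rw [maximalIdeal_eq_bot]; infer_instance
    rw [← PSLib.maximalIdeal_eq_vars]
    exact CohenLib.isAdicComplete_mvPowerSeries
  haveI : IsAdicComplete J (PS n K) := isAdicComplete_sq _
  haveI : Algebra.FormallySmooth P k := CoeffField.formallySmooth_of_perfectField P k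
  obtain ⟨v, hv⟩ := Algebra.FormallySmooth.exists_mkₐ_comp_eq_of_isAdicComplete (I := J) uA
  refine ⟨v.toRingHom, fun x => ?_⟩
  have hx : v x - F x ∈ J := Ideal.Quotient.eq.1 (AlgHom.congr_fun hv x)
  constructor
  · have := PSLib.coeff_eq_zero_of_mem_pow 2 _ hx 0 (by simp)
    rw [MvPowerSeries.coeff_zero_eq_constantCoeff_apply, map_sub, sub_eq_zero] at this
    show MvPowerSeries.constantCoeff (v x) = π x
    rw [this, constantCoeff_lin]
  · intro i
    have := PSLib.coeff_eq_zero_of_mem_pow 2 _ hx (Finsupp.single i 1) (by simp [Finsupp.degree_single])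
    rw [map_sub, sub_eq_zero] at this
    show MvPowerSeries.coeff (Finsupp.single i 1) (v x) = D i x
    rw [this, coeff_single_lin]

end Groth.Agent.H1FSExist
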